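import Mathlib.LinearAlgebra.QuadraticForm.Basic
import Mathlib.FieldTheory.ChevalleyWarning
import Mathlib.LinearAlgebra.Dimension.Free
import Mathlib.LinearAlgebra.FiniteDimensional.Lemmas
import Mathlib.LinearAlgebra.Basis.VectorSpace
import Mathlib.SetTheory.Cardinal.Finite
import Mathlib.Algebra.CharP.CharAndCard
import Mathlib.RingTheory.MvPolynomial.Homogeneous

/-!
# Counting zeros of regular quadratic forms over finite fields
-/

set_option autoImplicit false
set_option linter.all false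

noncomputable section

universe u

open QuadraticMap Module

namespace QuadCountLib

variable {k : Type u} [Field k] [Fintype k] {V : Type u} [AddCommGroup V] [Module k V] [FiniteDimensional k V]

/-- No nonzero singular isotropic vector. -/
def Reg (Q : QuadraticForm k V) : Prop := ∀ v, Q v = 0 → (∀ w, polar Q v w = 0) → v = 0

/-- The number of zeros. -/
def zc (Q : QuadraticForm k V) : ℕ := Nat.card {v : V // Q v = 0}

/-- A totally isotropic subspace of given dimension. -/
def Split (Q : QuadraticForm k V) (r : ℕ) : Prop := ∃ L : Submodule k V, finrank k L = r ∧ ∀ x ∈ L, Q x = 0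

theorem exists_isotropic (Q : QuadraticForm k V) (h : 3 ≤ finrank k V) : ∃ v, v ≠ 0 ∧ Q v = 0 := by
  classical
  let b := Module.finBasis k V
  let e : Fin 3 → V := fun i => b (Fin.castLE h i)
  have he : LinearIndependent k e := b.linearIndependent.comp _ (Fin.castLE_injective h)
  let P : MvPolynomial (Fin 3) k :=
    MvPolynomial.C (Q (e 0)) * MvPolynomial.X 0 ^ 2 + MvPolynomial.C (Q (e 1)) * MvPolynomial.X 1 ^ 2
      + MvPolynomial.C (Q (e 2)) * MvPolynomial.X 2 ^ 2
      + MvPolynomial.C (polar Q (e 0) (e 1)) * (MvPolynomial.X 0 * MvPolynomial.X 1)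
      + MvPolynomial.C (polar Q (e 0) (e 2)) * (MvPolynomial.X 0 * MvPolynomial.X 2)
      + MvPolynomial.C (polar Q (e 1) (e 2)) * (MvPolynomial.X 1 * MvPolynomial.X 2)
  have hP : P.IsHomogeneous 2 := by
    refine ((((MvPolynomial.IsHomogeneous.C_mul ?_ _).add (MvPolynomial.IsHomogeneous.C_mul ?_ _)).add
      (MvPolynomial.IsHomogeneous.C_mul ?_ _)).add (MvPolynomial.IsHomogeneous.C_mul ?_ _)).add
      (MvPolynomial.IsHomogeneous.C_mul ?_ _) |>.add (MvPolynomial.IsHomogeneous.C_mul ?_ _)
    all_goals first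
      | exact MvPolynomial.isHomogeneous_X_pow _ _
      | exact (MvPolynomial.isHomogeneous_X k _).mul (MvPolynomial.isHomogeneous_X k _)
  have heval : ∀ c : Fin 3 → k, MvPolynomial.eval c P = Q (c 0 • e 0 + c 1 • e 1 + c 2 • e 2) := by
    intro c
    simp only [P, QuadraticMap.map_add (⇑Q), QuadraticMap.map_smul, polar_add_left, polar_smul_left, polar_smul_right,
      map_add, map_mul, map_pow, MvPolynomial.eval_C, MvPolynomial.eval_X, smul_eq_mul]
    ring
  let p := ringChar k
  haveI : CharP k p := ringChar.charP k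
  haveI : Fact p.Prime := ⟨CharP.char_is_prime k p⟩
  have hdvd := char_dvd_card_solutions p (f := P) (lt_of_le_of_lt hP.totalDegree_le (by simp))
  have h0 : MvPolynomial.eval (0 : Fin 3 → k) P = 0 := by rw [heval]; simp
  have h1 : 1 < Fintype.card {c : Fin 3 → k // MvPolynomial.eval c P = 0} :=
    lt_of_lt_of_le (Fact.out : p.Prime).one_lt (Nat.le_of_dvd (Fintype.card_pos_iff.2 ⟨⟨0, h0⟩⟩) hdvd)
  obtain ⟨⟨c, hc⟩, hne⟩ := Fintype.exists_ne_of_one_lt_card h1 ⟨0, h0⟩
  refine ⟨c 0 • e 0 + c 1 • e 1 + c 2 • e 2, fun hz => hne (Subtype.ext ?_), by rw [← heval, hc]⟩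
  have := Fintype.linearIndependent_iff.1 he c (by rw [Fin.sum_univ_three]; exact hz)
  exact funext this

/-- A hyperbolic pair. -/
theorem exists_pair {Q : QuadraticForm k V} (hQ : Reg Q) {v : V} (hv : v ≠ 0) (hQv : Q v = 0) :
    ∃ y, Q y = 0 ∧ polar Q v y = 1 := by
  obtain ⟨w, hw⟩ : ∃ w, polar Q v w ≠ 0 := by
    by_contra h
    exact hv (hQ v hQv fun w => not_not.1 fun h' => h ⟨w, h'⟩)
  obtain ⟨y, hy⟩ : ∃ y, polar Q v y = 1 :=
    ⟨(polar Q v w)⁻¹ • w, by rw [polar_smul_right, smul_eq_mul, inv_mul_cancel₀ hw]⟩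
  refine ⟨y + (-(Q y)) • v, ?_, ?_⟩
  · rw [QuadraticMap.map_add (⇑Q), QuadraticMap.map_smul, hQv, polar_comm, polar_smul_left, hy]
    simp
  · rw [polar_add_right, hy, polar_smul_right, polar_self, hQv]
    simp

variable (Q : QuadraticForm k V) (v y : V)

/-- The orthogonal of a pair. -/
def orth : Submodule k V := LinearMap.ker (polarBilin Q v) ⊓ LinearMap.ker (polarBilin Q y)

theorem mem_orth {x : V} : x ∈ orth Q v y ↔ polar Q v x = 0 ∧ polar Q y x = 0 := Iff.rfl

variable {Q v y}

/-- The hyperbolic splitting. -/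
def splitEquiv (hv : Q v = 0) (hy : Q y = 0) (h : polar Q v y = 1) : ((k × k) × orth Q v y) ≃ₗ[k] V where
  toFun p := p.1.1 • v + p.1.2 • y + p.2
  invFun x := ((polar Q y x, polar Q v x), ⟨x - polar Q y x • v - polar Q v x • y, by
    have h' : polar Q y v = 1 := by rw [polar_comm, h]
    refine (mem_orth Q v y).2 ⟨?_, ?_⟩
    · simp [polar_sub_right, polar_smul_right, polar_self, hv, h]
    · simp [polar_sub_right, polar_smul_right, polar_self, hy, h']⟩)
  map_add' p p' := by simp [add_smul]; abel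
  map_smul' c p := by simp [smul_add, smul_smul]
  left_inv p := by
    obtain ⟨⟨a, b⟩, w, hw⟩ := p
    obtain ⟨h1, h2⟩ := (mem_orth Q v y).1 hw
    have h' : polar Q y v = 1 := by rw [polar_comm, h]
    have ha : polar Q y (a • v + b • y + w) = a := by
      simp [polar_add_right, polar_smul_right, polar_self, hy, h', h2]
    have hb : polar Q v (a • v + b • y + w) = b := by
      simp [polar_add_right, polar_smul_right, polar_self, hv, h, h1]
    refine Prod.ext (Prod.ext ha hb) (Subtype.ext ?_)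
    show a • v + b • y + w - polar Q y (a • v + b • y + w) • v - polar Q v (a • v + b • y + w) • y = w
    rw [ha, hb]
    abel
  right_inv x := by
    show polar Q y x • v + polar Q v x • y + (x - polar Q y x • v - polar Q v x • y) = x
    abel

theorem map_splitEquiv (hv : Q v = 0) (hy : Q y = 0) (h : polar Q v y = 1) (p : (k × k) × orth Q v y) :
    Q (splitEquiv hv hy h p) = p.1.1 * p.1.2 + Q p.2 := by
  obtain ⟨⟨a, b⟩, w, hw⟩ := p
  obtain ⟨h1, h2⟩ := (mem_orth Q v y).1 hw
  show Q (a • v + b • y + w) = a * b + Q w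
  simp [QuadraticMap.map_add (⇑Q), QuadraticMap.map_smul, polar_add_left, polar_smul_left, polar_smul_right, hv, hy, h, h1, h2]
  ring

theorem reg_restrict (hQ : Reg Q) (hv : Q v = 0) (hy : Q y = 0) (h : polar Q v y = 1) :
    Reg (Q.comp (orth Q v y).subtype) := by
  rintro ⟨w, hw⟩ h0 hp
  refine Subtype.ext (hQ w h0 fun x => ?_)
  obtain ⟨h1, h2⟩ := (mem_orth Q v y).1 hw
  obtain ⟨⟨⟨a, b⟩, z⟩, rfl⟩ := (splitEquiv hv hy h).surjective x
  show polar Q w (a • v + b • y + (z : V)) = 0
  have hz : polar Q w z = 0 := by simpa [polar] using hp z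
  simp [polar_add_right, polar_smul_right, polar_comm (⇑Q) w v, polar_comm (⇑Q) w y, h1, h2, hz]

theorem finrank_orth (hv : Q v = 0) (hy : Q y = 0) (h : polar Q v y = 1) :
    finrank k V = finrank k (orth Q v y) + 2 := by
  rw [← (splitEquiv hv hy h).finrank_eq, Module.finrank_prod, Module.finrank_prod, Module.finrank_self]
  omega

theorem card_mul_eq (c : k) [Decidable (c = 0)] :
    Nat.card {p : k × k // p.1 * p.2 = c} = (Fintype.card k - 1) + if c = 0 then Fintype.card k else 0 := by
  classical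
  let e : {p : k × k // p.1 * p.2 = c} ≃ Σ a : k, {b : k // a * b = c} :=
    { toFun := fun p => ⟨p.1.1, p.1.2, p.2⟩
      invFun := fun s => ⟨(s.1, s.2.1), s.2.2⟩
      left_inv := fun p => rfl
      right_inv := fun s => rfl }
  rw [Nat.card_congr e, Nat.card_sigma, ← Finset.add_sum_erase _ _ (Finset.mem_univ (0 : k))]
  have h0 : Nat.card {b : k // (0 : k) * b = c} = if c = 0 then Fintype.card k else 0 := by
    by_cases hc : c = 0
    · rw [if_pos hc, Nat.card_congr (Equiv.subtypeUnivEquiv fun b => by rw [zero_mul, hc]), Nat.card_eq_fintype_card]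
    · rw [if_neg hc]
      haveI : IsEmpty {b : k // (0 : k) * b = c} := ⟨fun b => hc (by rw [← b.2, zero_mul])⟩
      exact Nat.card_of_isEmpty
  have h1 : ∀ a ∈ Finset.univ.erase (0 : k), Nat.card {b : k // a * b = c} = 1 := fun a ha => by
    have ha' : a ≠ 0 := Finset.ne_of_mem_erase ha
    refine Nat.card_eq_one_iff_unique.2 ⟨⟨fun b b' => Subtype.ext (mul_left_cancel₀ ha' (b.2.trans b'.2.symm))⟩,
      ⟨⟨a⁻¹ * c, by rw [mul_inv_cancel_left₀ ha']⟩⟩⟩
  rw [h0, Finset.sum_congr rfl h1, Finset.sum_const, Finset.card_erase_of_mem (Finset.mem_univ _), smul_eq_mul,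
    mul_one, Finset.card_univ, add_comm]

theorem zc_split (hv : Q v = 0) (hy : Q y = 0) (h : polar Q v y = 1) :
    (zc Q : ℤ) = (Fintype.card k : ℤ) ^ finrank k (orth Q v y) * ((Fintype.card k : ℤ) - 1)
      + (Fintype.card k : ℤ) * zc (Q.comp (orth Q v y).subtype) := by
  classical
  haveI : Finite (orth Q v y) := Module.finite_of_finite k
  letI := Fintype.ofFinite (orth Q v y)
  let e : {x : V // Q x = 0} ≃ Σ w : orth Q v y, {p : k × k // p.1 * p.2 = -Q w} :=
    ((splitEquiv hv hy h).toEquiv.symm.subtypeEquiv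
      (q := fun p : (k × k) × orth Q v y => p.1.1 * p.1.2 = -Q (p.2 : V)) (fun x => by
      conv_lhs => rw [← (splitEquiv hv hy h).apply_symm_apply x, map_splitEquiv]
      exact add_eq_zero_iff_eq_neg (G := k))).trans
    { toFun := fun p => ⟨p.1.2, p.1.1, p.2⟩
      invFun := fun s => ⟨(s.2.1, s.1), s.2.2⟩
      left_inv := fun p => rfl
      right_inv := fun s => rfl }
  rw [zc, Nat.card_congr e, Nat.card_sigma, Finset.sum_congr rfl (fun (w : orth Q v y) (_ : w ∈ Finset.univ) => card_mul_eq (-Q (w : V))),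
    Finset.sum_add_distrib, Finset.sum_const, Finset.card_univ, ← Finset.sum_filter, Finset.sum_const]
  have h2 : (Finset.univ.filter fun w : orth Q v y => -Q (w : V) = 0).card = zc (Q.comp (orth Q v y).subtype) := by
    rw [zc, ← Nat.card_eq_finsetCard]
    exact Nat.card_congr (Equiv.subtypeEquivRight fun w => by simp)
  rw [h2, smul_eq_mul, smul_eq_mul, Module.card_eq_pow_finrank (K := k) (V := orth Q v y)]
  push_cast [Nat.cast_sub (Fintype.card_pos (α := k))]
  ring

theorem split_iff (hv : Q v = 0) (hy : Q y = 0) (h : polar Q v y = 1) (r : ℕ) :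
    Split Q (r + 1) ↔ Split (Q.comp (orth Q v y).subtype) r := by
  classical
  let e := splitEquiv hv hy h
  constructor
  · rintro ⟨L, hL, hLQ⟩
    let φ : V →ₗ[k] k := polarBilin Q v
    let L₁ : Submodule k V := L ⊓ LinearMap.ker φ
    let L₂ : Submodule k V := L₁ ⊔ Submodule.span k {v}
    have hL₂ : ∀ x ∈ L₂, Q x = 0 ∧ polar Q v x = 0 := by
      intro x hx
      obtain ⟨z, hz, t, ht, rfl⟩ := Submodule.mem_sup.1 hx
      obtain ⟨c, rfl⟩ := Submodule.mem_span_singleton.1 ht
      have hz2 : polar Q v z = 0 := hz.2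
      simp [QuadraticMap.map_add (⇑Q), QuadraticMap.map_smul, polar_add_right, polar_smul_right, polar_self, hv, hLQ z hz.1, hz2,
        polar_comm (⇑Q) z v]
    have hd : r + 1 ≤ finrank k L₂ := by
      by_cases hvL : v ∈ L
      · refine hL ▸ Submodule.finrank_mono fun x hx => Submodule.mem_sup_left ⟨hx, ?_⟩
        show polar Q v x = 0
        simp [polar, hLQ v hvL, hLQ x hx, hLQ _ (L.add_mem hvL hx)]
      · have hlt : L₁ < L₂ := lt_of_le_of_ne le_sup_left fun heq => hvL
          ((heq ▸ Submodule.mem_sup_right (Submodule.mem_span_singleton_self v) : v ∈ L₁)).1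
        have h1 := Submodule.finrank_lt_finrank_of_lt hlt
        let ψ : L →ₗ[k] k := φ.comp L.subtype
        have h2 := ψ.finrank_range_add_finrank_ker
        have h3 : finrank k (LinearMap.range ψ) ≤ 1 := by
          simpa [Module.finrank_self] using Submodule.finrank_le (LinearMap.range ψ)
        have h4 : finrank k (LinearMap.ker ψ) = finrank k L₁ := by
          have : L₁ = (LinearMap.ker ψ).map L.subtype := by
            ext x
            simp [L₁, ψ]
            tauto
          rw [this, Submodule.finrank_map_subtype_eq]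
        omega
    let π : V →ₗ[k] orth Q v y := (LinearMap.snd k (k × k) (orth Q v y)).comp e.symm.toLinearMap
    let ρ : L₂ →ₗ[k] orth Q v y := π.comp L₂.subtype
    have hρ : ∀ x ∈ LinearMap.range ρ, Q (x : V) = 0 := by
      rintro _ ⟨⟨x, hx⟩, rfl⟩
      obtain ⟨hx1, hx2⟩ := hL₂ x hx
      have hd := map_splitEquiv hv hy h (e.symm x)
      rw [show splitEquiv hv hy h (e.symm x) = x from e.apply_symm_apply x, hx1,
        show (e.symm x).1.2 = polar Q v x from rfl, hx2, mul_zero, zero_add] at hd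
      exact hd.symm
    have hker : finrank k (LinearMap.ker ρ) ≤ 1 := by
      have hle : (LinearMap.ker ρ).map L₂.subtype ≤ Submodule.span k {v} := by
        rintro _ ⟨⟨x, hx⟩, hxρ, rfl⟩
        refine Submodule.mem_span_singleton.2 ⟨(e.symm x).1.1, ?_⟩
        have h1 : (e.symm x).2 = 0 := hxρ
        conv_rhs => rw [show L₂.subtype ⟨x, hx⟩ = x from rfl, ← e.apply_symm_apply x]
        show _ = (e.symm x).1.1 • v + (e.symm x).1.2 • y + ((e.symm x).2 : V)
        rw [h1, show (e.symm x).1.2 = polar Q v x from rfl, (hL₂ x hx).2]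
        simp
      have := Submodule.finrank_mono hle
      rw [Submodule.finrank_map_subtype_eq] at this
      exact this.trans (le_of_eq (finrank_span_singleton (K := k) (v := v) fun h0 => by simp [h0] at h))
    have h2 := ρ.finrank_range_add_finrank_ker
    have h5 : r ≤ finrank k (LinearMap.range ρ) := by omega
    let b := Module.finBasis k (LinearMap.range ρ)
    let f : Fin r → orth Q v y := fun i => (b (Fin.castLE h5 i) : orth Q v y)
    refine ⟨Submodule.span k (Set.range f), ?_, fun x hx => hρ x ?_⟩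
    · rw [finrank_span_eq_card, Fintype.card_fin]
      exact (b.linearIndependent.map' (LinearMap.range ρ).subtype (Submodule.ker_subtype _)).comp _
        (Fin.castLE_injective h5)
    · exact Submodule.span_le.2 (by rintro _ ⟨i, rfl⟩; exact (b _).2) hx
  · rintro ⟨L, hL, hLQ⟩
    refine ⟨((Submodule.span k {((1 : k), (0 : k))}).prod L).map (e : _ →ₗ[k] V), ?_, ?_⟩
    · let P := Submodule.span k {((1 : k), (0 : k))}
      let q : (P.prod L) ≃ₗ[k] P × L :=
        { toFun := fun x => (⟨x.1.1, x.2.1⟩, ⟨x.1.2, x.2.2⟩)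
          invFun := fun x => ⟨(x.1.1, x.2.1), x.1.2, x.2.2⟩
          map_add' := fun _ _ => rfl
          map_smul' := fun _ _ => rfl
          left_inv := fun _ => rfl
          right_inv := fun _ => rfl }
      rw [LinearEquiv.finrank_map_eq, q.finrank_eq, Module.finrank_prod, finrank_span_singleton (by simp), hL, add_comm]
    · rintro _ ⟨⟨⟨a, b⟩, w⟩, ⟨h1, h2⟩, rfl⟩
      obtain ⟨c, hc⟩ := Submodule.mem_span_singleton.1 h1
      rw [show (e : _ →ₗ[k] V) ((a, b), w) = e ((a, b), w) from rfl, map_splitEquiv, show b = 0 by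
        simpa using (congrArg Prod.snd hc).symm]
      simpa using hLQ w h2

theorem zc_odd : ∀ (s : ℕ) (V : Type u) [AddCommGroup V] [Module k V] [FiniteDimensional k V] (Q : QuadraticForm k V),
    Reg Q → finrank k V = 2 * s + 1 → zc Q = Fintype.card k ^ (2 * s)
  | 0, V, _, _, _, Q, hQ, hd => by
    rw [mul_zero, pow_zero, zc]
    refine Nat.card_eq_one_iff_unique.2 ⟨⟨fun a b => Subtype.ext ?_⟩, ⟨⟨0, map_zero Q⟩⟩⟩
    suffices key : ∀ x : V, Q x = 0 → x = 0 by rw [key _ a.2, key _ b.2]
    intro x hx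
    by_contra hne
    refine hne (hQ x hx fun w => ?_)
    obtain ⟨c, rfl⟩ := (finrank_eq_one_iff_of_nonzero' x hne).1 hd w
    simp [polar_smul_right, polar_self, hx]
  | s + 1, V, _, _, _, Q, hQ, hd => by
    obtain ⟨v, hv, hQv⟩ := exists_isotropic Q (by omega)
    obtain ⟨y, hy, h⟩ := exists_pair hQ hv hQv
    have hr := finrank_orth hQv hy h
    have hW := zc_odd s (orth Q v y) _ (reg_restrict hQ hQv hy h) (by omega)
    have hz := zc_split hQv hy h
    rw [hW, show finrank k (orth Q v y) = 2 * s + 1 by omega] at hz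
    push_cast at hz
    have : (zc Q : ℤ) = (Fintype.card k : ℤ) ^ (2 * (s + 1)) := by rw [hz]; ring
    exact_mod_cast this

theorem zc_even : ∀ (s : ℕ) (V : Type u) [AddCommGroup V] [Module k V] [FiniteDimensional k V] (Q : QuadraticForm k V),
    Reg Q → finrank k V = 2 * s + 2 → ∃ ε : ℤ, (ε = 1 ∨ ε = -1) ∧
      (zc Q : ℤ) = (Fintype.card k : ℤ) ^ (2 * s + 1) + ε * ((Fintype.card k : ℤ) ^ (s + 1) - (Fintype.card k : ℤ) ^ s) ∧
      (ε = 1 ↔ Split Q (s + 1))
  | 0, V, _, _, _, Q, hQ, hd => by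
    by_cases hex : ∃ v, v ≠ 0 ∧ Q v = 0
    · obtain ⟨v, hv, hQv⟩ := hex
      obtain ⟨y, hy, h⟩ := exists_pair hQ hv hQv
      have hr := finrank_orth hQv hy h
      have h0 : finrank k (orth Q v y) = 0 := by omega
      have hW : zc (Q.comp (orth Q v y).subtype) = 1 := by
        haveI := Module.finrank_zero_iff.1 h0
        exact Nat.card_eq_one_iff_unique.2 ⟨inferInstance, ⟨⟨0, map_zero _⟩⟩⟩
      refine ⟨1, Or.inl rfl, ?_, iff_of_true rfl ?_⟩
      · rw [zc_split hQv hy h, hW, h0]; ring
      · exact (split_iff hQv hy h 0).2 ⟨⊥, finrank_bot k _, fun x hx => by rw [(Submodule.mem_bot k).1 hx, map_zero]⟩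
    · refine ⟨-1, Or.inr rfl, ?_, iff_of_false (by norm_num) ?_⟩
      · have hZ : zc Q = 1 := Nat.card_eq_one_iff_unique.2
          ⟨⟨fun a b => Subtype.ext ((not_not.1 fun h => hex ⟨_, h, a.2⟩ : (a : V) = 0).trans
            (not_not.1 fun h => hex ⟨_, h, b.2⟩ : (b : V) = 0).symm)⟩, ⟨⟨0, map_zero Q⟩⟩⟩
        rw [hZ]; ring
      · rintro ⟨L, hL, hLQ⟩
        obtain ⟨x, hx, hx0⟩ := L.exists_mem_ne_zero_of_ne_bot fun hb => by
          rw [hb, finrank_bot] at hL
          omega
        exact hex ⟨x, hx0, hLQ x hx⟩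
  | s + 1, V, _, _, _, Q, hQ, hd => by
    obtain ⟨v, hv, hQv⟩ := exists_isotropic Q (by omega)
    obtain ⟨y, hy, h⟩ := exists_pair hQ hv hQv
    have hr := finrank_orth hQv hy h
    obtain ⟨ε, hε, hW, hS⟩ := zc_even s (orth Q v y) _ (reg_restrict hQ hQv hy h) (by omega)
    refine ⟨ε, hε, ?_, hS.trans (split_iff hQv hy h (s + 1)).symm⟩
    rw [zc_split hQv hy h, hW, show finrank k (orth Q v y) = 2 * s + 2 by omega]
    ring

end QuadCountLib

end
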