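import Groth.Agent.QuadCountLib.Count
import Mathlib.Algebra.MvPolynomial.PDeriv

/-!
# The quadratic form of a homogeneous polynomial of degree two
-/

set_option autoImplicit false
set_option linter.all false

noncomputable section

universe u

open MvPolynomial Module

namespace QuadCountLib

variable {k : Type u} [Field k] {N : ℕ} {p : MvPolynomial (Fin N) k} (hp : p.IsHomogeneous 2)

include hp in
theorem induction_two {P : MvPolynomial (Fin N) k → Prop} (h0 : P 0)
    (hadd : ∀ a b, P a → P b → P (a + b)) (hmon : ∀ (c : k) (a b : Fin N), P (C c * (X a * X b))) : P p := by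
  classical
  rw [← p.support_sum_monomial_coeff]
  refine Finset.sum_induction _ P hadd h0 fun d hd => ?_
  have hdeg : (d.sum fun _ e => e) = 2 := by
    have := hp (MvPolynomial.mem_support_iff.1 hd)
    simpa [Finsupp.weight_apply] using this
  have hcard : d.toMultiset.card = 2 := by
    rw [Finsupp.card_toMultiset]
    simpa [Finsupp.sum] using hdeg
  obtain ⟨a, b, hab⟩ := Multiset.card_eq_two.1 hcard
  have hd' : d = Finsupp.single a 1 + Finsupp.single b 1 := by
    rw [← Finsupp.toMultiset_toFinsupp d, hab]
    simp [Multiset.toFinsupp_add, ← Multiset.singleton_add, Multiset.toFinsupp_singleton]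
  have := hmon (p.coeff d) a b
  rwa [← monomial_zero', X, X, monomial_mul, monomial_mul, ← hd', zero_add, _root_.mul_one, _root_.mul_one] at this

include hp in
theorem eval_smul (t : k) (x : Fin N → k) : eval (t • x) p = t * t * eval x p := by
  refine induction_two hp (P := fun q => eval (t • x) q = t * t * eval x q) (by simp)
    (fun a b ha hb => by simp [ha, hb, mul_add]) fun c a b => ?_
  simp
  ring

include hp in
theorem polar_eval (x y : Fin N → k) :
    QuadraticMap.polar (fun v => eval v p) x y = ∑ a, y a * eval x (pderiv a p) := by
  classical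
  refine induction_two hp (P := fun q => QuadraticMap.polar (fun v => eval v q) x y = ∑ a, y a * eval x (pderiv a q))
    (by simp [QuadraticMap.polar]) (fun a b ha hb => ?_) fun c a b => ?_
  · simp only [map_add, mul_add, Finset.sum_add_distrib, ← ha, ← hb]
    simp [QuadraticMap.polar]
    ring
  · simp [QuadraticMap.polar, pderiv_X, Pi.single_apply, mul_add, add_mul, Finset.sum_add_distrib, apply_ite (eval x),
      mul_ite, ite_mul]
    ring

include hp in
theorem polar_comm_sum (x y : Fin N → k) :
    ∑ a, y a * eval x (pderiv a p) = ∑ a, x a * eval y (pderiv a p) := by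
  rw [← polar_eval hp, ← polar_eval hp, QuadraticMap.polar_comm]

/-- The quadratic form. -/
def qf : QuadraticForm k (Fin N → k) :=
  QuadraticMap.ofPolar (fun v => eval v p) (fun t x => by simp [eval_smul hp]) (fun x x' y => by
      rw [polar_eval hp, polar_eval hp, polar_eval hp, polar_comm_sum hp, polar_comm_sum hp x, polar_comm_sum hp x',
        ← Finset.sum_add_distrib]
      simp [add_mul]) fun t x y => by
      rw [polar_eval hp, polar_eval hp, polar_comm_sum hp, polar_comm_sum hp x, Finset.smul_sum]
      simp [mul_assoc]

theorem qf_apply (x : Fin N → k) : qf hp x = eval x p := rfl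

end QuadCountLib

end
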